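import Mathlib
import Cfsg.Prelude.Def_GeometricClasses

/-! Ladder ASP4O, helper file for E5BAS: rationality passes to the generated subgroup. -/

set_option autoImplicit false

namespace Cfsg.Agent.Lib.Helper99.SP4O

open Cfsg Cfsg.Geo
open scoped MatrixGroups Matrix

variable {ι : Type} [Fintype ι] [DecidableEq ι] {F : Type*} [Field F]

theorem e5b1_mul (F₀ : Subfield F) (M N : Matrix ι ι F) (hM : ∀ i j, M i j ∈ F₀) (hN : ∀ i j, N i j ∈ F₀) :
    ∀ i j, (M * N) i j ∈ F₀ := by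
  intro i j
  rw [Matrix.mul_apply]
  exact sum_mem fun k _ => mul_mem (hM i k) (hN k j)

theorem e5b1_one (F₀ : Subfield F) : ∀ i j, (1 : Matrix ι ι F) i j ∈ F₀ := by
  intro i j
  rw [Matrix.one_apply]
  split_ifs
  · exact one_mem _
  · exact zero_mem _

theorem e5b1_conj_mul (B x y : GL ι F) :
    (B : Matrix ι ι F) * ((x * y : GL ι F) : Matrix ι ι F) * ((B⁻¹ : GL ι F) : Matrix ι ι F) =
      ((B : Matrix ι ι F) * (x : Matrix ι ι F) * ((B⁻¹ : GL ι F) : Matrix ι ι F)) *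
        ((B : Matrix ι ι F) * (y : Matrix ι ι F) * ((B⁻¹ : GL ι F) : Matrix ι ι F)) := by
  have : ((B * (x * y) * B⁻¹ : GL ι F) : Matrix ι ι F) = ((B * x * B⁻¹ * (B * y * B⁻¹) : GL ι F) : Matrix ι ι F) := by
    congr 1
    group
  simpa only [Units.val_mul] using this

/-- rationality of the generators (and of their inverses) passes to the generated subgroup. -/
theorem e5b1_closure (F₀ : Subfield F) (B : GL ι F) (S : Set (GL ι F))
    (hS : ∀ g ∈ S,
      (∀ i j, ((B : Matrix ι ι F) * (g : Matrix ι ι F) * ((B⁻¹ : GL ι F) : Matrix ι ι F)) i j ∈ F₀) ∧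
      (∀ i j, ((B : Matrix ι ι F) * ((g⁻¹ : GL ι F) : Matrix ι ι F) * ((B⁻¹ : GL ι F) : Matrix ι ι F)) i j ∈ F₀)) :
    RealisableOver F₀ (matrixSet (Subgroup.closure S)) := by
  have key : ∀ x ∈ Subgroup.closure S,
      (∀ i j, ((B : Matrix ι ι F) * (x : Matrix ι ι F) * ((B⁻¹ : GL ι F) : Matrix ι ι F)) i j ∈ F₀) ∧
      (∀ i j, ((B : Matrix ι ι F) * ((x⁻¹ : GL ι F) : Matrix ι ι F) * ((B⁻¹ : GL ι F) : Matrix ι ι F)) i j ∈ F₀) := by
    intro x hx
    induction hx using Subgroup.closure_induction with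
    | mem g hg => exact hS g hg
    | one =>
      have h1 : (B : Matrix ι ι F) * ((1 : GL ι F) : Matrix ι ι F) * ((B⁻¹ : GL ι F) : Matrix ι ι F) = 1 := by
        rw [Units.val_one, mul_one, ← Units.val_mul, mul_inv_cancel, Units.val_one]
      refine ⟨?_, ?_⟩
      · rw [h1]; exact e5b1_one F₀
      · rw [inv_one, h1]; exact e5b1_one F₀
    | mul x y _ _ hx hy =>
      refine ⟨?_, ?_⟩
      · rw [e5b1_conj_mul]; exact e5b1_mul F₀ _ _ hx.1 hy.1
      · rw [mul_inv_rev, e5b1_conj_mul]; exact e5b1_mul F₀ _ _ hy.2 hx.2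
    | inv x _ hx =>
      refine ⟨hx.2, ?_⟩
      rw [inv_inv]; exact hx.1
  refine ⟨B, ?_⟩
  rintro _ ⟨x, hx, rfl⟩
  exact (key x hx).1

end Cfsg.Agent.Lib.Helper99.SP4O
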