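import Mathlib
import Cfsg.Prelude.Def_GeometricClasses

/-! Ladder ASP4O, helper file for E5BAS: independence of `v, c v, b v, b c v`. -/

set_option autoImplicit false
set_option linter.unusedSectionVars false

namespace Cfsg.Agent.Lib.Helper99.SP4O

open Cfsg Cfsg.Geo
open scoped MatrixGroups Matrix

variable {ι : Type} [Fintype ι] [DecidableEq ι] {F : Type*} [Field F]

/-- `v, c v` are independent. -/
theorem e5b3_pair (h2 : (2 : F) ≠ 0) (C D : Matrix ι ι F) (hc : C * C = -1) (hd : D * D = -1)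
    (hcd : C * D = -(D * C)) (α β : F) (hβ : β ≠ 0) (v : ι → F) (hv : v ≠ 0)
    (htv : (α • C + β • D) *ᵥ v = v) (y0 y1 : F) (h : y0 • v + y1 • C *ᵥ v = 0) : y0 = 0 ∧ y1 = 0 := by
  by_cases hy1 : y1 = 0
  · subst hy1
    rw [zero_smul, add_zero] at h
    exact ⟨(smul_eq_zero.1 h).resolve_right hv, rfl⟩
  · exfalso
    obtain ⟨l, hl⟩ : ∃ l : F, C *ᵥ v = l • v := by
      refine ⟨-(y1⁻¹ * y0), ?_⟩
      have h3 : y1 • C *ᵥ v = -(y0 • v) := eq_neg_of_add_eq_zero_right h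
      have h4 : C *ᵥ v = y1⁻¹ • (y1 • C *ᵥ v) := by rw [smul_smul, inv_mul_cancel₀ hy1, one_smul]
      rw [h4, h3, smul_neg, smul_smul, neg_smul]
    have hl0 : l ≠ 0 := by
      intro h0
      rw [h0, zero_smul] at hl
      apply hv
      have : (C * C) *ᵥ v = 0 := by rw [← Matrix.mulVec_mulVec, hl, Matrix.mulVec_zero]
      rw [hc, Matrix.neg_mulVec, Matrix.one_mulVec] at this
      exact neg_eq_zero.1 this
    obtain ⟨m, hm⟩ : ∃ m : F, D *ᵥ v = m • v := by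
      refine ⟨β⁻¹ * (1 - α * l), ?_⟩
      rw [Matrix.add_mulVec, Matrix.smul_mulVec, Matrix.smul_mulVec, hl] at htv
      have h3 : β • D *ᵥ v = (1 - α * l) • v := by
        rw [sub_smul, one_smul, mul_smul]
        exact eq_sub_of_add_eq' htv
      have h4 : D *ᵥ v = β⁻¹ • (β • D *ᵥ v) := by rw [smul_smul, inv_mul_cancel₀ hβ, one_smul]
      rw [h4, h3, smul_smul]
    have h5 : (C * D) *ᵥ v = (m * l) • v := by
      rw [← Matrix.mulVec_mulVec, hm, Matrix.mulVec_smul, hl, smul_smul]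
    have h6 : (D * C) *ᵥ v = (l * m) • v := by
      rw [← Matrix.mulVec_mulVec, hl, Matrix.mulVec_smul, hm, smul_smul]
    rw [hcd, Matrix.neg_mulVec, h6] at h5
    have h7 : (2 * (l * m)) • v = 0 := by
      have : (2 * (l * m)) • v = (m * l) • v - (-((l * m) • v)) := by
        rw [sub_neg_eq_add, ← add_smul]; congr 1; ring
      rw [this, ← h5, sub_self]
    have hm0 : m = 0 := by
      rcases smul_eq_zero.1 h7 with h8 | h8
      · rcases mul_eq_zero.1 h8 with h9 | h9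
        · exact absurd h9 h2
        · exact (mul_eq_zero.1 h9).resolve_left hl0
      · exact absurd h8 hv
    rw [hm0, zero_smul] at hm
    apply hv
    have : (D * D) *ᵥ v = 0 := by rw [← Matrix.mulVec_mulVec, hm, Matrix.mulVec_zero]
    rw [hd, Matrix.neg_mulVec, Matrix.one_mulVec] at this
    exact neg_eq_zero.1 this

/-- `v, c v, b v, b c v` are independent. -/
theorem e5b3_indep (h2 : (2 : F) ≠ 0) (A B B' C D : Matrix ι ι F) (hB : B' * B = 1) (hc : C * C = -1)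
    (hd : D * D = -1) (hab : A * B = -(B * A)) (hcd : C * D = -(D * C)) (hac : A * C = C * A)
    (α β : F) (hβ : β ≠ 0) (v : ι → F) (hv : v ≠ 0) (hav : A *ᵥ v = v)
    (htv : (α • C + β • D) *ᵥ v = v) (x0 x1 x2 x3 : F)
    (h : x0 • v + x1 • C *ᵥ v + x2 • B *ᵥ v + x3 • B *ᵥ (C *ᵥ v) = 0) :
    x0 = 0 ∧ x1 = 0 ∧ x2 = 0 ∧ x3 = 0 := by
  have hACv : A *ᵥ (C *ᵥ v) = C *ᵥ v := by
    rw [Matrix.mulVec_mulVec, hac, ← Matrix.mulVec_mulVec, hav]
  have hABv : A *ᵥ (B *ᵥ v) = -(B *ᵥ v) := by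
    rw [Matrix.mulVec_mulVec, hab, Matrix.neg_mulVec, ← Matrix.mulVec_mulVec, hav]
  have hABCv : A *ᵥ (B *ᵥ (C *ᵥ v)) = -(B *ᵥ (C *ᵥ v)) := by
    rw [Matrix.mulVec_mulVec, hab, Matrix.neg_mulVec, ← Matrix.mulVec_mulVec, hACv]
  have hA := congrArg (fun u => A *ᵥ u) h
  simp only [Matrix.mulVec_add, Matrix.mulVec_smul, hav, hACv, hABv, hABCv, Matrix.mulVec_zero] at hA
  have h01 : x0 • v + x1 • C *ᵥ v = 0 := by
    have h3 : (2 : F) • (x0 • v + x1 • C *ᵥ v) = 0 := by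
      have : (2 : F) • (x0 • v + x1 • C *ᵥ v) =
          (x0 • v + x1 • C *ᵥ v + x2 • B *ᵥ v + x3 • B *ᵥ (C *ᵥ v)) +
          (x0 • v + x1 • C *ᵥ v + x2 • -(B *ᵥ v) + x3 • -(B *ᵥ (C *ᵥ v))) := by
        module
      rw [this, h, hA, add_zero]
    exact (smul_eq_zero.1 h3).resolve_left h2
  obtain ⟨hx0, hx1⟩ := e5b3_pair h2 C D hc hd hcd α β hβ v hv htv x0 x1 h01
  have h23 : x2 • v + x3 • C *ᵥ v = 0 := by
    have h3 : B *ᵥ (x2 • v + x3 • C *ᵥ v) = 0 := by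
      rw [Matrix.mulVec_add, Matrix.mulVec_smul, Matrix.mulVec_smul]
      rw [add_assoc, h01, zero_add] at h
      exact h
    have h4 : (B' * B) *ᵥ (x2 • v + x3 • C *ᵥ v) = 0 := by
      rw [← Matrix.mulVec_mulVec, h3, Matrix.mulVec_zero]
    rwa [hB, Matrix.one_mulVec] at h4
  obtain ⟨hx2, hx3⟩ := e5b3_pair h2 C D hc hd hcd α β hβ v hv htv x2 x3 h23
  exact ⟨hx0, hx1, hx2, hx3⟩

/-- the exact form asked for by helper45. -/
theorem e5b3_ind (h2 : (2 : F) ≠ 0) (a b c d : GL ι F)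
    (ha : a * a = 1) (hb : b * b = 1 ∨ b * b = -1) (hc : c * c = -1) (hd : d * d = -1) (hab : a * b = -(b * a))
    (hcd : c * d = -(d * c)) (hac : a * c = c * a) (had : a * d = d * a) (hbc : b * c = c * b) (hbd : b * d = d * b)
    (α β : F) (hβ : β ≠ 0) (v : ι → F) (hv : v ≠ 0) (hav : (a : Matrix ι ι F) *ᵥ v = v)
    (htv : α • ((c : Matrix ι ι F) *ᵥ v) + β • ((d : Matrix ι ι F) *ᵥ v) = v) (x : Fin 4 → F)
    (h : x 0 • v + x 1 • ((c : Matrix ι ι F) *ᵥ v) + x 2 • ((b : Matrix ι ι F) *ᵥ v) +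
      x 3 • ((b : Matrix ι ι F) *ᵥ ((c : Matrix ι ι F) *ᵥ v)) = 0) : x = 0 := by
  obtain ⟨h0, h1, h2', h3⟩ := e5b3_indep h2 (a : Matrix ι ι F) b ((b⁻¹ : GL ι F) : Matrix ι ι F) c d
    (by rw [← Units.val_mul, inv_mul_cancel, Units.val_one])
    (by rw [← Units.val_mul, hc, Units.val_neg, Units.val_one])
    (by rw [← Units.val_mul, hd, Units.val_neg, Units.val_one])
    (by rw [← Units.val_mul, hab, Units.val_neg, Units.val_mul])
    (by rw [← Units.val_mul, hcd, Units.val_neg, Units.val_mul])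
    (by rw [← Units.val_mul, hac, Units.val_mul]) α β hβ v hv hav
    (by rw [Matrix.add_mulVec, Matrix.smul_mulVec, Matrix.smul_mulVec]; exact htv)
    (x 0) (x 1) (x 2) (x 3) h
  funext i
  fin_cases i
  · exact h0
  · exact h1
  · exact h2'
  · exact h3

end Cfsg.Agent.Lib.Helper99.SP4O
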