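import Cfsg.Agent.Lib.Helper80.AS.T0X

/-! Ladder ASP4O, rung EX3A (helper98). -/

set_option autoImplicit false
set_option linter.unusedSimpArgs false
set_option linter.unusedSectionVars false

namespace Cfsg.Agent.Lib.Helper99.SP4O

open Cfsg Cfsg.Geo
open Cfsg.Agent.Lib.Helper80.AS
open scoped MatrixGroups Matrix Kronecker

variable {ι : Type} [Fintype ι] [DecidableEq ι] {F : Type*} [Field F]

/-- the parametrisation of the plane spanned by `u1`, `u2`. -/
def ex3aL (u1 u2 : ι → F) : (F × F) →ₗ[F] (ι → F) :=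
  (LinearMap.fst F F F).smulRight u1 + (LinearMap.snd F F F).smulRight u2

omit [Fintype ι] [DecidableEq ι] in
theorem ex3aL_apply (u1 u2 : ι → F) (p : F × F) : ex3aL u1 u2 p = p.1 • u1 + p.2 • u2 := rfl

omit [DecidableEq ι] in
theorem ex3a_plane (f : (ι → F) → (ι → F) → F) (hf : IsSymplecticForm f) (u1 u2 : ι → F)
    (hc : f u1 u2 ≠ 0) :
    Module.finrank F (LinearMap.range (ex3aL u1 u2)) = 2 ∧
      IsNondegenerateOn f (LinearMap.range (ex3aL u1 u2)) := by
  have hb := hf.bilinear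
  have h1 : ∀ p : F × F, f (ex3aL u1 u2 p) u2 = p.1 * f u1 u2 := by
    intro p
    rw [ex3aL_apply, hb.add_left, hb.smul_left, hb.smul_left, hf.alternating, mul_zero, add_zero]
  have h2 : ∀ p : F × F, f (ex3aL u1 u2 p) u1 = - (p.2 * f u1 u2) := by
    intro p
    rw [ex3aL_apply, hb.add_left, hb.smul_left, hb.smul_left, hf.alternating, mul_zero, zero_add,
      hf.skew u2 u1, mul_neg]
  have hf0 : ∀ x, f 0 x = 0 := fun x => by simpa using hb.smul_left 0 0 x
  constructor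
  · rw [LinearMap.finrank_range_of_inj, Module.finrank_prod, Module.finrank_self]
    rw [injective_iff_map_eq_zero]
    intro p hp
    have e1 := h1 p
    have e2 := h2 p
    rw [hp, hf0] at e1 e2
    ext
    · exact (mul_eq_zero.1 e1.symm).resolve_right hc
    · exact (mul_eq_zero.1 (neg_eq_zero.1 e2.symm)).resolve_right hc
  · rintro _ ⟨p, rfl⟩ hw0
    have hp : p.1 ≠ 0 ∨ p.2 ≠ 0 := by
      by_contra hcon
      push Not at hcon
      apply hw0
      rw [ex3aL_apply, hcon.1, hcon.2]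
      simp
    have hu1 : u1 ∈ LinearMap.range (ex3aL u1 u2) := ⟨(1, 0), by simp [ex3aL_apply]⟩
    have hu2 : u2 ∈ LinearMap.range (ex3aL u1 u2) := ⟨(0, 1), by simp [ex3aL_apply]⟩
    rcases hp with hp | hp
    · have : f (ex3aL u1 u2 p) u2 ≠ 0 := by
        rw [h1]; exact mul_ne_zero hp hc
      exact ⟨⟨u2, hu2, by rw [hf.skew]; exact neg_ne_zero.2 this⟩, ⟨u2, hu2, this⟩⟩
    · have : f (ex3aL u1 u2 p) u1 ≠ 0 := by
        rw [h2]; exact neg_ne_zero.2 (mul_ne_zero hp hc)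
      exact ⟨⟨u1, hu1, by rw [hf.skew]; exact neg_ne_zero.2 this⟩, ⟨u1, hu1, this⟩⟩

theorem ex3a_basis (f : (ι → F) → (ι → F) → F) (hf : IsSymplecticForm f)
    (D : Fin 2 → Submodule F (ι → F)) (hD : IsMDecomposition 2 D)
    (hts : ∀ i, IsTotallySingularFor f (D i)) :
    ∃ a1 a2 b1 b2 : ι → F, a1 ∈ D 0 ∧ a2 ∈ D 0 ∧ b1 ∈ D 1 ∧ b2 ∈ D 1 ∧
      f a1 b1 = 1 ∧ f a1 b2 = 0 ∧ f a2 b1 = 0 ∧ f a2 b2 = 1 ∧
      (∀ w ∈ D 0, ∃ s t : F, w = s • a1 + t • a2) ∧ (∀ z ∈ D 1, ∃ s t : F, z = s • b1 + t • b2) := by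
  have hb := hf.bilinear
  have htop : ∀ v : ι → F, ∃ w ∈ D 0, ∃ z ∈ D 1, w + z = v := by
    intro v
    have h1 : (⊤ : Submodule F (ι → F)) ≤ D 0 ⊔ D 1 := by
      rw [← hD.iSup_eq_top]
      refine iSup_le fun i => ?_
      fin_cases i
      · exact le_sup_left
      · exact le_sup_right
    exact Submodule.mem_sup.1 (h1 Submodule.mem_top)
  obtain ⟨bas⟩ : Nonempty (Module.Basis (Fin 2) F (D 0)) :=
    ⟨Module.finBasisOfFinrankEq F (D 0) (hD.finrank_eq 0)⟩
  obtain ⟨a1, ha1⟩ : ∃ a1 : ι → F, a1 = (bas 0 : ι → F) := ⟨_, rfl⟩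
  obtain ⟨a2, ha2⟩ : ∃ a2 : ι → F, a2 = (bas 1 : ι → F) := ⟨_, rfl⟩
  have hspan0 : ∀ w ∈ D 0, ∃ s t : F, w = s • a1 + t • a2 := by
    intro w hw
    refine ⟨bas.repr ⟨w, hw⟩ 0, bas.repr ⟨w, hw⟩ 1, ?_⟩
    have := bas.sum_repr ⟨w, hw⟩
    rw [Fin.sum_univ_two] at this
    have h2 := congrArg Subtype.val this
    rw [ha1, ha2]
    simpa using h2.symm
  let Ψ : D 1 →ₗ[F] (Fin 2 → F) :=
    { toFun := fun z => ![f a1 z, f a2 z]
      map_add' := by
        intro x y
        ext i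
        fin_cases i <;> simp [hb.add_right]
      map_smul' := by
        intro c x
        ext i
        fin_cases i <;> simp [hb.smul_right] }
  have hΨ : ∀ z : D 1, Ψ z = ![f a1 z, f a2 z] := fun z => rfl
  have hinj : Function.Injective Ψ := by
    rw [injective_iff_map_eq_zero]
    intro z hz
    have e1 : f a1 z = 0 := by
      have := congrFun hz 0
      simpa [hΨ] using this
    have e2 : f a2 z = 0 := by
      have := congrFun hz 1
      simpa [hΨ] using this
    by_contra hz0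
    have hz0' : (z : ι → F) ≠ 0 := fun h => hz0 (Subtype.ext h)
    obtain ⟨⟨x, hx⟩, _⟩ := hf.nondegenerate _ hz0'
    apply hx
    obtain ⟨w, hw, z', hz', rfl⟩ := htop x
    obtain ⟨s, t, rfl⟩ := hspan0 w hw
    rw [hb.add_left, hb.add_left, hb.smul_left, hb.smul_left, e1, e2, hts 1 z' hz' z z.2]
    simp
  have hsurj : Function.Surjective Ψ :=
    (LinearMap.injective_iff_surjective_of_finrank_eq_finrank
      (by rw [hD.finrank_eq 1]; simp)).1 hinj
  obtain ⟨b1, hb1⟩ := hsurj ![1, 0]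
  obtain ⟨b2, hb2⟩ := hsurj ![0, 1]
  refine ⟨a1, a2, b1, b2, ha1 ▸ (bas 0).2, ha2 ▸ (bas 1).2, b1.2, b2.2, ?_, ?_, ?_, ?_, hspan0, ?_⟩
  · have := congrFun hb1 0
    simpa [hΨ] using this
  · have := congrFun hb2 0
    simpa [hΨ] using this
  · have := congrFun hb1 1
    simpa [hΨ] using this
  · have := congrFun hb2 1
    simpa [hΨ] using this
  · intro z hz
    refine ⟨f a1 z, f a2 z, ?_⟩
    have : (⟨z, hz⟩ : D 1) = f a1 z • b1 + f a2 z • b2 := by
      apply hinj
      rw [map_add, map_smul, map_smul, hb1, hb2, hΨ]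
      ext i
      fin_cases i <;> simp
    exact congrArg Subtype.val this

theorem ex3a_inj (g : GL ι F) : Function.Injective (Matrix.toLin' (g : Matrix ι ι F)) := by
  intro x y h
  rw [Matrix.toLin'_apply, Matrix.toLin'_apply] at h
  have hx := t0_inv_mulVec g⁻¹ x
  have hy := t0_inv_mulVec g⁻¹ y
  rw [inv_inv] at hx hy
  rw [← hx, ← hy, h]

/-- the set of `w + z`, `w ∈ D 0`, `z ∈ D 1` orthogonal, both zero or both non-zero, is invariant. -/
theorem ex3a_map (f : (ι → F) → (ι → F) → F) (hf : IsSymplecticForm f)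
    (D : Fin 2 → Submodule F (ι → F)) (g : GL ι F)
    (hg : g ∈ similarityGroup f) (hgD : g ∈ decompositionStabilizer D) (v : ι → F)
    (hv : ∃ w ∈ D 0, ∃ z ∈ D 1, v = w + z ∧ f w z = 0 ∧ (w = 0 ↔ z = 0)) :
    ∃ w ∈ D 0, ∃ z ∈ D 1, (g : Matrix ι ι F) *ᵥ v = w + z ∧ f w z = 0 ∧ (w = 0 ↔ z = 0) := by
  obtain ⟨w, hw, z, hz, rfl, hwz, hiff⟩ := hv
  obtain ⟨c, hc⟩ := hg
  obtain ⟨σ, hσ⟩ := hgD
  have hmap : ∀ i, ∀ x ∈ D i, (g : Matrix ι ι F) *ᵥ x ∈ D (σ i) := by
    intro i x hx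
    rw [← hσ i]
    exact ⟨x, hx, by rw [Matrix.toLin'_apply]⟩
  have hinj : ∀ x, (g : Matrix ι ι F) *ᵥ x = 0 ↔ x = 0 := by
    intro x
    constructor
    · intro h
      have := t0_inv_mulVec g⁻¹ x
      rw [inv_inv, h, Matrix.mulVec_zero] at this
      exact this.symm
    · rintro rfl
      simp
  have hne : σ 0 ≠ σ 1 := fun h => by simpa using σ.injective h
  have h01 : ∀ x : Fin 2, x = 0 ∨ x = 1 := by
    intro x
    fin_cases x <;> simp
  have hσ01 : (σ 0 = 0 ∧ σ 1 = 1) ∨ (σ 0 = 1 ∧ σ 1 = 0) := by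
    rcases h01 (σ 0) with h0 | h0 <;> rcases h01 (σ 1) with h1 | h1
    · exact absurd (h0.trans h1.symm) hne
    · exact Or.inl ⟨h0, h1⟩
    · exact Or.inr ⟨h0, h1⟩
    · exact absurd (h0.trans h1.symm) hne
  rw [Matrix.mulVec_add]
  rcases hσ01 with ⟨h0, h1⟩ | ⟨h0, h1⟩
  · refine ⟨_, h0 ▸ hmap 0 w hw, _, h1 ▸ hmap 1 z hz, rfl, by rw [hc, hwz, mul_zero], ?_⟩
    rw [hinj, hinj]
    exact hiff
  · refine ⟨_, h1 ▸ hmap 1 z hz, _, h0 ▸ hmap 0 w hw, add_comm _ _,
      by rw [hc, hf.skew, hwz, neg_zero, mul_zero], ?_⟩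
    rw [hinj, hinj]
    exact hiff.symm

/-- EX3A. -/
theorem ts_pair_three [Fintype F] (hq : Fintype.card F = 3) (hcard : Fintype.card ι = 4)
    (f : (ι → F) → (ι → F) → F) (hf : IsSymplecticForm f) (Γ : Subgroup (GL ι F)) (hΓ : Γ ≤ similarityGroup f)
    (D : Fin 2 → Submodule F (ι → F)) (hD : IsMDecomposition 2 D) (hts : ∀ i, IsTotallySingularFor f (D i))
    (hst : Γ ≤ decompositionStabilizer D) :
    ∃ D' : Fin 2 → Submodule F (ι → F), IsNondegenerateMDecomposition f 2 D' ∧ Γ ≤ decompositionStabilizer D' := by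
  classical
  have h3 : (3 : F) = 0 := by
    have hcast : ((Fintype.card F : ℕ) : F) = 0 := Nat.cast_card_eq_zero F
    rw [hq] at hcast
    exact_mod_cast hcast
  have hF : ∀ a : F, a = 0 ∨ a = 1 ∨ a = -1 := by
    intro a
    by_contra hcon
    push Not at hcon
    have h10 : (1 : F) ≠ -1 := by
      intro h
      have : (1 : F) = 0 := by linear_combination h3 - h
      exact one_ne_zero this
    have h4 : ({0, 1, -1, a} : Finset F).card = 4 := by
      rw [Finset.card_insert_of_notMem, Finset.card_insert_of_notMem, Finset.card_insert_of_notMem,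
        Finset.card_singleton]
      · simp [hcon.2.2.symm]
      · simp [hcon.2.1.symm, h10]
      · simp [hcon.1.symm]
    have h5 := Finset.card_le_univ ({0, 1, -1, a} : Finset F)
    omega
  have h2 : (2 : F) ≠ 0 := by
    intro h
    apply one_ne_zero (α := F)
    linear_combination h3 - h
  have hb := hf.bilinear
  obtain ⟨a1, a2, b1, b2, ha1, ha2, hb1, hb2, t11, t12, t21, t22, hs0, hs1⟩ :=
    ex3a_basis f hf D hD hts
  have s11 : f b1 a1 = -1 := by rw [hf.skew, t11]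
  have s21 : f b2 a1 = 0 := by rw [hf.skew, t12, neg_zero]
  have s12 : f b1 a2 = 0 := by rw [hf.skew, t21, neg_zero]
  have s22 : f b2 a2 = -1 := by rw [hf.skew, t22]
  have A11 := hts 0 a1 ha1 a1 ha1
  have A12 := hts 0 a1 ha1 a2 ha2
  have A21 := hts 0 a2 ha2 a1 ha1
  have A22 := hts 0 a2 ha2 a2 ha2
  have B11 := hts 1 b1 hb1 b1 hb1
  have B12 := hts 1 b1 hb1 b2 hb2
  have B21 := hts 1 b2 hb2 b1 hb1
  have B22 := hts 1 b2 hb2 b2 hb2
  have hf0 : ∀ x, f 0 x = 0 := fun x => by simpa using hb.smul_left 0 0 x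
  have hf0' : ∀ x, f x 0 = 0 := fun x => by simpa using hb.smul_right 0 x 0
  obtain ⟨W, hW⟩ : ∃ W : F → Submodule F (ι → F),
      ∀ ε, W ε = LinearMap.range (ex3aL (a1 + ε • b2) (a2 + (-ε) • b1)) := ⟨_, fun _ => rfl⟩
  have hc : ∀ ε : F, f (a1 + ε • b2) (a2 + (-ε) • b1) = -(2 * ε) := by
    intro ε
    simp only [hb.add_left, hb.add_right, hb.smul_left, hb.smul_right, t11, t12, t21, t22, s11, s21, s12, s22,
      A11, A12, A21, A22, B11, B12, B21, B22]
    ring
  have hpl : ∀ ε : F, ε ≠ 0 → Module.finrank F (W ε) = 2 ∧ IsNondegenerateOn f (W ε) := by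
    intro ε hε
    rw [hW]
    apply ex3a_plane f hf
    rw [hc]
    exact neg_ne_zero.2 (mul_ne_zero h2 hε)
  have horth : ∀ u ∈ W 1, ∀ v ∈ W (-1), f u v = 0 := by
    intro u hu v hv
    rw [hW] at hu hv
    obtain ⟨p, rfl⟩ := hu
    obtain ⟨p', rfl⟩ := hv
    simp only [ex3aL_apply, hb.add_left, hb.add_right, hb.smul_left, hb.smul_right, t11, t12, t21, t22, s11, s21, s12, s22,
      A11, A12, A21, A22, B11, B12, B21, B22]
    ring
  have h1ne : (1 : F) ≠ 0 := one_ne_zero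
  have hm1ne : (-1 : F) ≠ 0 := neg_ne_zero.2 one_ne_zero
  have hdisj : W 1 ⊓ W (-1) = ⊥ := by
    rw [eq_bot_iff]
    rintro x ⟨hx1, hx2⟩
    rw [Submodule.mem_bot]
    by_contra hx0
    obtain ⟨⟨y, hy, hyx⟩, _⟩ := (hpl 1 h1ne).2 x hx1 hx0
    exact hyx (horth y hy x hx2)
  have hdec : IsNondegenerateMDecomposition f 2 (![W 1, W (-1)] : Fin 2 → Submodule F (ι → F)) :=
    t0x_pair f hf 2 (by norm_num) (W 1) (W (-1)) (by rw [hcard]) (hpl 1 h1ne).1 (hpl _ hm1ne).1 hdisj
      (hpl 1 h1ne).2 (hpl _ hm1ne).2 horth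
  have hWS : ∀ ε : F, ε ≠ 0 → ∀ v ∈ W ε,
      ∃ w ∈ D 0, ∃ z ∈ D 1, v = w + z ∧ f w z = 0 ∧ (w = 0 ↔ z = 0) := by
    intro ε hε v hv
    rw [hW] at hv
    obtain ⟨⟨s, t⟩, rfl⟩ := hv
    refine ⟨s • a1 + t • a2, add_mem (Submodule.smul_mem _ _ ha1) (Submodule.smul_mem _ _ ha2),
      (-(ε * t)) • b1 + (ε * s) • b2,
      add_mem (Submodule.smul_mem _ _ hb1) (Submodule.smul_mem _ _ hb2), ?_, ?_, ?_⟩
    · show s • (a1 + ε • b2) + t • (a2 + (-ε) • b1) = _
      module
    · simp only [hb.add_left, hb.add_right, hb.smul_left, hb.smul_right, t11, t12, t21, t22, s11, s21, s12, s22,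
      A11, A12, A21, A22, B11, B12, B21, B22]
      ring
    · constructor
      · intro h0
        have e1 : f (s • a1 + t • a2) b1 = s := by
          simp only [hb.add_left, hb.add_right, hb.smul_left, hb.smul_right, t11, t12, t21, t22, s11, s21, s12, s22,
      A11, A12, A21, A22, B11, B12, B21, B22]
          ring
        have e2 : f (s • a1 + t • a2) b2 = t := by
          simp only [hb.add_left, hb.add_right, hb.smul_left, hb.smul_right, t11, t12, t21, t22, s11, s21, s12, s22,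
      A11, A12, A21, A22, B11, B12, B21, B22]
          ring
        rw [h0, hf0] at e1 e2
        rw [← e1, ← e2]
        simp
      · intro h0
        have e1 : f a1 ((-(ε * t)) • b1 + (ε * s) • b2) = -(ε * t) := by
          simp only [hb.add_left, hb.add_right, hb.smul_left, hb.smul_right, t11, t12, t21, t22, s11, s21, s12, s22,
      A11, A12, A21, A22, B11, B12, B21, B22]
          ring
        have e2 : f a2 ((-(ε * t)) • b1 + (ε * s) • b2) = ε * s := by
          simp only [hb.add_left, hb.add_right, hb.smul_left, hb.smul_right, t11, t12, t21, t22, s11, s21, s12, s22,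
      A11, A12, A21, A22, B11, B12, B21, B22]
          ring
        rw [h0, hf0'] at e1 e2
        have ht : t = 0 := (mul_eq_zero.1 (neg_eq_zero.1 e1.symm)).resolve_left hε
        have hs : s = 0 := (mul_eq_zero.1 e2.symm).resolve_left hε
        rw [hs, ht]
        simp
  have hSW : ∀ v, (∃ w ∈ D 0, ∃ z ∈ D 1, v = w + z ∧ f w z = 0 ∧ (w = 0 ↔ z = 0)) →
      v ∈ W 1 ∨ v ∈ W (-1) := by
    rintro v ⟨w, hw, z, hz, rfl, hwz, hiff⟩
    obtain ⟨s, t, rfl⟩ := hs0 w hw
    obtain ⟨y1, y2, rfl⟩ := hs1 z hz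
    have hrel : s * y1 + t * y2 = 0 := by
      rw [← hwz]
      simp only [hb.add_left, hb.add_right, hb.smul_left, hb.smul_right, t11, t12, t21, t22, s11, s21, s12, s22,
      A11, A12, A21, A22, B11, B12, B21, B22]
      ring
    have hzero : (s • a1 + t • a2 = 0) → (s • a1 + t • a2 + (y1 • b1 + y2 • b2)) ∈ W 1 := by
      intro h0
      rw [hiff.1 h0, h0, add_zero]
      exact zero_mem _
    have hmem : ∀ c : F, y1 = -(c * t) → y2 = c * s →
        (s • a1 + t • a2 + (y1 • b1 + y2 • b2)) ∈ W c := by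
      intro c e1 e2
      rw [hW]
      refine ⟨(s, t), ?_⟩
      rw [e1, e2]
      show s • (a1 + c • b2) + t • (a2 + (-c) • b1) = _
      module
    by_cases hst : s = 0 ∧ t = 0
    · left
      apply hzero
      rw [hst.1, hst.2]
      simp
    obtain ⟨c, e1, e2⟩ : ∃ c : F, y1 = -(c * t) ∧ y2 = c * s := by
      by_cases hs : s = 0
      · have ht : t ≠ 0 := fun h => hst ⟨hs, h⟩
        refine ⟨-(y1 / t), by field_simp, ?_⟩
        rw [hs, zero_mul, zero_add] at hrel
        rw [hs, mul_zero]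
        exact (mul_eq_zero.1 hrel).resolve_left ht
      · refine ⟨y2 / s, ?_, by field_simp⟩
        field_simp
        linear_combination hrel
    rcases hF c with rfl | rfl | rfl
    · left
      apply hzero
      apply hiff.2
      rw [e1, e2]
      simp
    · left
      exact hmem 1 e1 e2
    · right
      exact hmem (-1) e1 e2
  refine ⟨![W 1, W (-1)], hdec, ?_⟩
  intro g hg
  have himg : ∀ ε : F, ε ≠ 0 → (W ε).map (Matrix.toLin' (g : Matrix ι ι F)) = W 1 ∨
      (W ε).map (Matrix.toLin' (g : Matrix ι ι F)) = W (-1) := by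
    intro ε hε
    have hsub : ∀ x ∈ (W ε).map (Matrix.toLin' (g : Matrix ι ι F)), x ∈ W 1 ∨ x ∈ W (-1) := by
      rintro _ ⟨v, hv, rfl⟩
      rw [Matrix.toLin'_apply]
      exact hSW _ (ex3a_map f hf D g (hΓ hg) (hst hg) v (hWS ε hε v hv))
    have hfr : Module.finrank F ((W ε).map (Matrix.toLin' (g : Matrix ι ι F))) = 2 := by
      rw [← (hpl ε hε).1]
      exact (LinearEquiv.finrank_eq (Submodule.equivMapOfInjective _ (ex3a_inj g) (W ε))).symm
    have hle : (W ε).map (Matrix.toLin' (g : Matrix ι ι F)) ≤ W 1 ∨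
        (W ε).map (Matrix.toLin' (g : Matrix ι ι F)) ≤ W (-1) := by
      by_contra hcon
      push Not at hcon
      obtain ⟨h1, h2'⟩ := hcon
      obtain ⟨x, hx, hx1⟩ := SetLike.not_le_iff_exists.1 h1
      obtain ⟨y, hy, hy2⟩ := SetLike.not_le_iff_exists.1 h2'
      have hx2 := (hsub x hx).resolve_left hx1
      have hy1 := (hsub y hy).resolve_right hy2
      rcases hsub (x + y) (add_mem hx hy) with h | h
      · exact hx1 (by simpa using sub_mem h hy1)
      · exact hy2 (by simpa using sub_mem h hx2)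
    rcases hle with h | h
    · left
      exact Submodule.eq_of_le_of_finrank_eq h (by rw [hfr, (hpl 1 h1ne).1])
    · right
      exact Submodule.eq_of_le_of_finrank_eq h (by rw [hfr, (hpl _ hm1ne).1])
  have hne : W 1 ≠ W (-1) := by
    intro h
    rw [← h, inf_idem] at hdisj
    have := (hpl 1 h1ne).1
    rw [hdisj, finrank_bot] at this
    omega
  have hmapinj := Submodule.map_injective_of_injective (ex3a_inj g)
  rcases himg 1 h1ne with e1 | e1 <;> rcases himg (-1) hm1ne with e2 | e2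
  · exact absurd (hmapinj (e1.trans e2.symm)) hne
  · refine ⟨1, fun i => ?_⟩
    fin_cases i
    · exact e1
    · exact e2
  · refine ⟨Equiv.swap 0 1, fun i => ?_⟩
    fin_cases i
    · show (W 1).map _ = (![W 1, W (-1)] : Fin 2 → Submodule F (ι → F)) ((Equiv.swap (0 : Fin 2) 1) 0)
      rw [Equiv.swap_apply_left]
      exact e1
    · show (W (-1)).map _ = (![W 1, W (-1)] : Fin 2 → Submodule F (ι → F)) ((Equiv.swap (0 : Fin 2) 1) 1)
      rw [Equiv.swap_apply_right]
      exact e2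
  · exact absurd (hmapinj (e1.trans e2.symm)) hne

end Cfsg.Agent.Lib.Helper99.SP4O
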